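import Groth.Agent.KoszulNullLib.Cone
import Groth.Agent.KEulerLib.Cone
import Groth.Agent.CILib.KoszulCalc

/-! Koszul homology with redundant elements. -/

set_option autoImplicit false
set_option backward.isDefEq.respectTransparency false

universe u

open CategoryTheory CategoryTheory.Limits CohIII

noncomputable section

namespace Groth.Agent.KoszulNullLib

/-- Subsets of an `r`-element set. -/
def Idx : ℕ → Type
  | 0 => Unit
  | r + 1 => Idx r ⊕ Idx r

/-- The cardinality of a subset. -/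
def wt : {r : ℕ} → Idx r → ℕ
  | 0, _ => 0
  | _ + 1, Sum.inl i => wt i
  | _ + 1, Sum.inr i => wt i + 1

theorem wt_le : ∀ {r : ℕ} (i : Idx r), wt i ≤ r
  | 0, _ => le_rfl
  | r + 1, Sum.inl i => (wt_le i).trans r.le_succ
  | r + 1, Sum.inr i => Nat.succ_le_succ (wt_le i)

/-- The weight in `Fin`. -/
def wtF {r : ℕ} (i : Idx r) : Fin (r + 1) := ⟨wt i, Nat.lt_succ_of_le (wt_le i)⟩

theorem nonempty_fibre : ∀ r j : ℕ, Nonempty ({i : Idx r // wt i = j} ≃ Fin (r.choose j))
  | 0, 0 => ⟨⟨fun _ => ⟨0, by simp⟩, fun _ => ⟨(), rfl⟩, fun _ => rfl, fun x => by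
      rcases x with ⟨x, hx⟩
      simp at hx
      subst hx
      rfl⟩⟩
  | 0, j + 1 => by
      haveI : IsEmpty {i : Idx 0 // wt i = j + 1} := ⟨fun i => Nat.succ_ne_zero j (i.2.symm)⟩
      rw [Nat.choose_zero_succ]
      exact ⟨Equiv.equivOfIsEmpty _ _⟩
  | r + 1, 0 => by
      obtain ⟨e⟩ := nonempty_fibre r 0
      haveI : IsEmpty {i : Idx r // wt i + 1 = 0} := ⟨fun i => Nat.succ_ne_zero _ i.2⟩
      rw [Nat.choose_zero_right] at e ⊢
      exact ⟨(Equiv.subtypeSum (p := fun i : Idx r ⊕ Idx r => wt (r := r + 1) i = 0)).trans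
        ((Equiv.sumEmpty _ {i : Idx r // wt i + 1 = 0}).trans e)⟩
  | r + 1, j + 1 => by
      obtain ⟨e⟩ := nonempty_fibre r (j + 1)
      obtain ⟨e'⟩ := nonempty_fibre r j
      exact ⟨(Equiv.subtypeSum (p := fun i : Idx r ⊕ Idx r => wt (r := r + 1) i = j + 1)).trans
        ((Equiv.sumCongr e ((Equiv.subtypeEquivRight fun i => Nat.succ_inj).trans e')).trans
          (finSumFinEquiv.trans (finCongr (by rw [Nat.choose_succ_succ']; omega))))⟩

variable {A : Type u} [CommRing A]

/-- The sigma index. -/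
def idxEquiv (r : ℕ) : Idx r ≃ Σ j : Fin (r + 1), Fin (r.choose j) :=
  (Equiv.sigmaFiberEquiv (wtF (r := r))).symm.trans
    (Equiv.sigmaCongrRight fun j =>
      (Equiv.subtypeEquivRight fun i => by simp [wtF, Fin.ext_iff]).trans (nonempty_fibre r j).some)

theorem idxEquiv_fst {r : ℕ} (i : Idx r) : ((idxEquiv r i).1 : ℕ) = wt i := rfl

instance : Unique (Idx 0) := inferInstanceAs (Unique Unit)

/-- Homology in equal degrees. -/
def hcast (K : CochainComplex (ModuleCat.{u} A) ℤ) {a b : ℤ} (h : a = b) :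
    K.homology a ≃ₗ[A] K.homology b := (eqToIso (congrArg (fun n => K.homology n) h)).toLinearEquiv

theorem nonempty_homology_append (M : ModuleCat.{u} A) (l : List A) : ∀ ys : List A,
    (∀ y ∈ ys, y ∈ Ideal.span {a | a ∈ l}) → ∀ m : ℤ,
      Nonempty ((koszulCx M (ys ++ l)).homology m ≃ₗ[A]
        ((i : Idx ys.length) → (koszulCx M l).homology (m + wt i)))
  | [], _, m => ⟨(hcast (koszulCx M l) (show m = m + ((0 : ℕ) : ℤ) by simp)).trans
      (LinearEquiv.piUnique A fun i : Idx 0 => (koszulCx M l).homology (m + wt i)).symm⟩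
  | y :: ys, hys, m => by
    obtain ⟨H⟩ := KoszulCech.nonempty_homotopy_smul M (ys ++ l) y
      (Ideal.span_mono (fun a ha => List.mem_append_right ys ha) (hys y (by simp)))
    obtain ⟨E⟩ := nonempty_homology_equiv H (m := m) (m' := m + 1) (by omega)
    obtain ⟨e₁⟩ := nonempty_homology_append M l ys (fun z hz => hys z (by simp [hz])) m
    obtain ⟨e₂⟩ := nonempty_homology_append M l ys (fun z hz => hys z (by simp [hz])) (m + 1)
    have hc : ∀ i : Idx ys.length, m + 1 + (wt i : ℤ) = m + ((wt i + 1 : ℕ) : ℤ) := fun i => by push_cast; ring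
    exact ⟨E.trans ((e₁.prodCongr (e₂.trans (LinearEquiv.piCongrRight fun i =>
      hcast (koszulCx M l) (hc i)))).trans
        (LinearEquiv.sumPiEquivProdPi A (Idx ys.length) (Idx ys.length)
          fun i : Idx (ys.length + 1) => (koszulCx M l).homology (m + wt i)).symm)⟩

/-- Koszul homology with redundant elements. -/
theorem nonempty_homology_tensorCx (M : ModuleCat.{u} A) (xs ys : List A)
    (hy : ∀ y ∈ ys, y ∈ Ideal.span {a | a ∈ xs}) (m : ℤ) :
    Nonempty ((DRing.tensorCx (Koszul.koszul A (xs ++ ys)) M).homology m ≅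
      ModuleCat.of A ((j : Fin (ys.length + 1)) → Fin (ys.length.choose j) →
        (DRing.tensorCx (Koszul.koszul A xs) M).homology (m + j))) := by
  obtain ⟨e, he⟩ := CILib.exists_bij_of_perm (List.perm_append_comm (l₁ := xs) (l₂ := ys))
    (Koszul.koszul A [])
  revert e
  rw [← CILib.koszul_append (xs ++ ys) [], ← CILib.koszul_append (ys ++ xs) [], List.append_nil, List.append_nil]
  intro e he
  haveI : ∀ k, IsIso (e.f k) := fun k => (ConcreteCategory.isIso_iff_bijective _).2 (he k)
  haveI := HomologicalComplex.Hom.isIso_of_components e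
  let Φ := HomologicalComplex.homologyFunctor (ModuleCat.{u} A) (ComplexShape.up ℤ)
  obtain ⟨f⟩ := nonempty_homology_append M xs ys hy m
  refine ⟨(Φ m).mapIso (((MonoidalCategory.tensorRight M).mapHomologicalComplex (ComplexShape.up ℤ)).mapIso
    (asIso e) ≪≫ KEulerLib.tensorCxKoszulIso M (ys ++ xs)) ≪≫ LinearEquiv.toModuleIso ?_⟩
  let P : (Σ j : Fin (ys.length + 1), Fin (ys.length.choose j)) → Type u := fun s =>
    (DRing.tensorCx (Koszul.koszul A xs) M).homology (m + (s.1 : ℕ))
  let g : ((i : Idx ys.length) → (koszulCx M xs).homology (m + wt i)) ≃ₗ[A]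
      ((i : Idx ys.length) → P (idxEquiv ys.length i)) :=
    LinearEquiv.piCongrRight fun i => (hcast (koszulCx M xs) (by rw [idxEquiv_fst])).trans
      ((Φ (m + ((idxEquiv ys.length i).1 : ℕ))).mapIso (KEulerLib.tensorCxKoszulIso M xs).symm).toLinearEquiv
  let g' : ((i : Idx ys.length) → P (idxEquiv ys.length i)) ≃ₗ[A] ((s : _) → P s) :=
    LinearEquiv.piCongrLeft A P (idxEquiv ys.length)
  exact (f.trans g).trans (g'.trans (LinearEquiv.piCurry A
    (fun (j : Fin (ys.length + 1)) (_ : Fin (ys.length.choose j)) =>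
      (DRing.tensorCx (Koszul.koszul A xs) M).homology (m + j))))

end Groth.Agent.KoszulNullLib
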