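import Mathlib

/-! The cone of a null-homotopic map. -/

set_option autoImplicit false
set_option backward.isDefEq.respectTransparency false

universe u

open CategoryTheory CategoryTheory.Limits CochainComplex CochainComplex.HomComplex

noncomputable section

namespace Groth.Agent.KoszulNullLib

variable {A : Type u} [CommRing A] {F L : CochainComplex (ModuleCat.{u} A) ℤ} {φ : F ⟶ L} (H : Homotopy φ 0)

/-- The retraction of `inr` given by a null homotopy. -/
def retr : mappingCone φ ⟶ L :=
  mappingCone.desc φ (Cochain.equivHomotopy φ 0 H).1 (𝟙 L) (by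
    rw [Category.comp_id]
    exact ((Cochain.equivHomotopy φ 0 H).2.trans ((congrArg _ (Cochain.ofHom_zero (F := F) (G := L))).trans
      (add_zero _))).symm)

/-- The comparison map. -/
def splitMap : mappingCone φ ⟶ L ⊞ F⟦(1 : ℤ)⟧ := biprod.lift (retr H) (mappingCone.triangle φ).mor₃

/-- Degreewise inverse. -/
def splitInv (n : ℤ) : (L ⊞ F⟦(1 : ℤ)⟧).X n ⟶ (mappingCone φ).X n :=
  (biprod.fst : L ⊞ F⟦(1 : ℤ)⟧ ⟶ L).f n ≫ (mappingCone.inr φ).f n +
    (biprod.snd : L ⊞ F⟦(1 : ℤ)⟧ ⟶ F⟦(1 : ℤ)⟧).f n ≫ (F.shiftFunctorObjXIso 1 n (n + 1) rfl).hom ≫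
      ((Cochain.equivHomotopy φ 0 H).1.v (n + 1) n (by omega) ≫ (mappingCone.inr φ).f n -
        (mappingCone.inl φ).v (n + 1) n (by omega))

theorem isIso_splitMap : IsIso (splitMap H) := by
  suffices ∀ n, IsIso ((splitMap H).f n) from HomologicalComplex.Hom.isIso_of_components _
  intro n
  have h1 : (splitMap H).f n ≫ (biprod.fst : L ⊞ F⟦(1 : ℤ)⟧ ⟶ L).f n = (retr H).f n := by
    rw [← HomologicalComplex.comp_f, splitMap, biprod.lift_fst]
  have h2 : (splitMap H).f n ≫ (biprod.snd : L ⊞ F⟦(1 : ℤ)⟧ ⟶ F⟦(1 : ℤ)⟧).f n =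
      (mappingCone.triangle φ).mor₃.f n := by
    rw [← HomologicalComplex.comp_f, splitMap, biprod.lift_snd]
  refine ⟨splitInv H n, ?_, ?_⟩
  · rw [splitInv, Preadditive.comp_add, reassoc_of% h1, reassoc_of% h2]
    refine mappingCone.ext_from φ (n + 1) n rfl ?_ ?_
    · simp only [Preadditive.comp_add, Category.comp_id, retr, mappingCone.inl_v_desc_f_assoc,
        mappingCone.inl_v_triangle_mor₃_f_assoc, Preadditive.neg_comp, Iso.inv_hom_id_assoc]
      abel
    · simp only [Preadditive.comp_add, Category.comp_id, retr, mappingCone.inr_f_desc_f_assoc,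
        mappingCone.inr_f_triangle_mor₃_f_assoc, zero_comp, add_zero, HomologicalComplex.id_f,
        Category.id_comp]
  · refine (cancel_mono (HomologicalComplex.biprodXIso L (F⟦(1 : ℤ)⟧) n).hom).1 (biprod.hom_ext _ _ ?_ ?_)
    · simp only [Category.assoc, HomologicalComplex.biprodXIso_hom_fst, h1, Category.id_comp, splitInv,
        Preadditive.add_comp, Preadditive.sub_comp, retr, mappingCone.inr_f_desc_f,
        mappingCone.inl_v_desc_f, HomologicalComplex.id_f, Category.comp_id, sub_self, comp_zero, add_zero]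
    · simp only [Category.assoc, HomologicalComplex.biprodXIso_hom_snd, h2, Category.id_comp, splitInv,
        Preadditive.add_comp, Preadditive.sub_comp, mappingCone.inl_v_triangle_mor₃_f,
        mappingCone.inr_f_triangle_mor₃_f, comp_zero, zero_sub, neg_neg, zero_add, Iso.hom_inv_id,
        Category.comp_id]

include H in
/-- Homology of the cone of a null-homotopic map. -/
theorem nonempty_homology_equiv {m m' : ℤ} (hm : 1 + m = m') :
    Nonempty ((mappingCone φ).homology m ≃ₗ[A] L.homology m × F.homology m') := by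
  haveI := isIso_splitMap H
  let Φ := HomologicalComplex.homologyFunctor (ModuleCat.{u} A) (ComplexShape.up ℤ) m
  haveI : Φ.Additive := inferInstance
  haveI := preservesBinaryBiproducts_of_preservesBiproducts Φ
  exact ⟨(Φ.mapIso (asIso (splitMap H)) ≪≫ Φ.mapBiprod L (F⟦(1 : ℤ)⟧) ≪≫
    biprod.mapIso (Iso.refl _)
      (((HomologicalComplex.homologyFunctor (ModuleCat.{u} A) (ComplexShape.up ℤ) 0).shiftIso 1 m m' hm).app F) ≪≫
    ModuleCat.biprodIsoProd _ _).toLinearEquiv⟩

end Groth.Agent.KoszulNullLib
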